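import Cfsg.Agent.H442.O8R.GeoA
import Cfsg.Agent.H332.O8R.Planes

/-!
# S3691, row `PΩ⁺₈(q)`, SPIN: GEO-OM (helper442)
-/

set_option autoImplicit false
set_option linter.unusedSectionVars false

namespace Cfsg.Agent.H442.O8R

open Module QuadraticMap Cfsg.Agent.H953.O8R Cfsg.Agent.H578.RC Cfsg.Agent.LieClassical.OrthCore
open scoped commutatorElement

variable {F V Γ T G : Type} [Field F] [Fintype F] [AddCommGroup V] [Module F V] [FiniteDimensional F V] [Group Γ] [Group T] [Group G]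
  {Q : QuadraticForm F V} {ρ : Γ →* Module.End F V} {π : Γ →* T} {f : G →* T} {n : ℕ} {t : Fin 3 → G}
  {L : Fin 3 → Subgroup G} {r : Fin 3 → Module.End F V} {c : F}

theorem trP (hS : Sys Q ρ π) (h2 : (2 : F) ≠ 0) (hR : RS Q ρ π f t L r c) : TrP ρ r := by
  intro H hH i hinv
  obtain ⟨p, hp, hp0⟩ := P_ne hR i
  exact H332.O8R.O2 hH hR.irr (hR.dim i) (fun v hv => r_mem hR hv) (fun v _ => hR.iso i v) (hR.quad i)
    ⟨p, hp, fun h => hp0 (P_ani hS h2 hR hp h)⟩ (fun h _ v _ => hS.iso h v) hinv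

theorem rdP (hS : Sys Q ρ π) (h2 : (2 : F) ≠ 0) (hR : RS Q ρ π f t L r c) : RdP Q ρ r := by
  intro H hH i y hQ hperp hfix hinv h hh v hv
  obtain ⟨p, hp, hp0⟩ := P_ne hR i
  refine H332.O8R.RAD hH hR.irr (hR.dim i) (fun v hv => r_mem hR hv) (fun v _ => hR.iso i v) (hR.quad i)
    ⟨p, hp, fun h => hp0 (P_ani hS h2 hR hp h)⟩ (hR.compl i) (y := y) ((mem_ker hR).2 ((fix_iff hS hR).2 hperp)) hQ hperp
    (fun h _ v => hS.iso h v) ?_ ?_ h hh v (Submodule.mem_sup_left hv)
  · intro h hh v hv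
    obtain ⟨p, hp, a, e⟩ := hinv h hh v hv
    rw [e]
    exact Submodule.add_mem _ (Submodule.mem_sup_left hp)
      (Submodule.mem_sup_right (Submodule.smul_mem _ _ (Submodule.mem_span_singleton_self y)))
  · intro h hh
    rw [hfix h hh]
    exact Submodule.mem_span_singleton_self y

/-- isometries of rank one are reflections -/
theorem rank_one (hS : Sys Q ρ π) (h2 : (2 : F) ≠ 0) {h : Γ} (hr : finrank F (LinearMap.range (ρ h - 1)) ≤ 1) (v : V) :
    ρ h (ρ h v) = v := by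
  obtain ⟨⟨w, a0, ha0⟩, hw⟩ := finrank_le_one_iff.1 hr
  change ρ h a0 - a0 = w at ha0
  have hb : ∀ a, ∃ b : F, ρ h a = a + b • w := by
    intro a
    obtain ⟨b, hb⟩ := hw ⟨ρ h a - a, a, rfl⟩
    refine ⟨b, ?_⟩
    have := congrArg Subtype.val hb
    change b • w = ρ h a - a at this
    rw [this]
    abel
  by_cases hQ : Q w = 0
  · have hw0 : w = 0 := by
      by_contra hw0
      have key : ∀ a, ρ h a = a ∨ polar Q a w = 0 := by
        intro a
        obtain ⟨b, hb⟩ := hb a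
        have h3 := hS.iso h a
        rw [hb, QuadraticMap.map_add Q, QuadraticMap.map_smul, hQ, polar_smul_right, smul_zero, add_zero, add_eq_left,
          smul_eq_mul] at h3
        rcases mul_eq_zero.1 h3 with h4 | h4
        · left; rw [hb, h4, zero_smul, add_zero]
        · right; exact h4
      have h5 : polar Q a0 w = 0 := (key a0).resolve_left fun h => hw0 (by rw [← ha0, h, sub_self])
      apply hw0
      apply hS.nondeg
      intro a
      by_contra h6
      have h7 : ρ h a = a := (key a).resolve_right h6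
      rcases key (a0 + a) with h8 | h8
      · rw [map_add, h7, add_left_inj] at h8
        exact hw0 (by rw [← ha0, h8, sub_self])
      · rw [polar_add_left, h5, zero_add] at h8
        exact h6 h8
    obtain ⟨b, hb1⟩ := hb v
    rw [hw0, smul_zero, add_zero] at hb1
    rw [hb1, hb1]
  · obtain ⟨b, hb1⟩ := hb w
    have h3 := hS.iso h w
    have h4 : ρ h w = (1 + b) • w := by rw [hb1, add_smul, one_smul]
    rw [h4, QuadraticMap.map_smul, smul_eq_mul] at h3
    have h5 : ((1 + b) - 1) * ((1 + b) + 1) = 0 := by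
      have h6 : (((1 + b) - 1) * ((1 + b) + 1)) * Q w = 0 := by linear_combination h3
      exact (mul_eq_zero.1 h6).resolve_right hQ
    rcases mul_eq_zero.1 h5 with h6 | h6
    · exfalso
      rw [sub_eq_zero] at h6
      rw [h6, one_smul] at h4
      have h7 := pol_fix hS h4 a0
      rw [ha0, QuadraticMap.polar_self, two_nsmul, ← two_mul] at h7
      rcases mul_eq_zero.1 h7 with h8 | h8
      · exact h2 h8
      · exact hQ h8
    · have h7 : 1 + b = -1 := eq_neg_of_add_eq_zero_left h6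
      rw [h7, neg_smul, one_smul] at h4
      obtain ⟨a, ha⟩ := hb v
      rw [ha, map_add, map_smul, h4, ha, smul_neg]
      abel

section om

variable (hS : Sys Q ρ π) (hf : Function.Injective f) (h2 : (2 : F) ≠ 0) {A B M : Subgroup G} {s : G} {k : ℕ}
  {g : Fin 5 → G} (hD : DOm G n t L A B M s k g) (hR : RS Q ρ π f t L r c)

theorem ap_inj (x : Γ) : Function.Injective (ρ x) := by
  intro a b hab
  have := congrArg (ρ x⁻¹) hab
  rwa [inv_ap, inv_ap] at this

/-- the translates of `X` -/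
abbrev XT (ρ : Γ →* Module.End F V) (π : Γ →* T) (f : G →* T) (M : Subgroup G) (r : Fin 3 → Module.End F V) (x : Γ) :
    Submodule F V := (XX ρ π f M r).map (ρ x)

include hS hf h2 hD hR in
theorem XT_dim (x : Γ) : finrank F (XT ρ π f M r x) = 3 := by
  rw [← (Submodule.equivMapOfInjective (ρ x) (ap_inj x) (XX ρ π f M r)).finrank_eq, X_three hS hf hD hR (trP hS h2 hR)]

include hS hD hR in
theorem XT_fix (x : Γ) {m : Γ} (hm : m ∈ Mh π f M) {u : V} (hu : ∀ v ∈ XT ρ π f M r x, polar Q v u = 0) :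
    ρ (x * m * x⁻¹) u = u := by
  rw [mul_ap, mul_ap, Mh_pp hS hD hR hm, ap_inv]
  intro v hv
  rw [← pol_inv hS]
  exact hu _ ⟨v, hv, rfl⟩

include hS hD hR in
theorem XT_range (x : Γ) {m : Γ} (hm : m ∈ Mh π f M) : LinearMap.range (ρ (x * m * x⁻¹) - 1) ≤ XT ρ π f M r x := by
  rintro _ ⟨a, rfl⟩
  rw [← pp_pp (nd hS) (XT ρ π f M r x)]
  intro u hu
  have h1 : ∀ v ∈ XT ρ π f M r x, polar Q v u = 0 := hu
  have h3 := pol_fix hS (XT_fix hS hD hR x hm h1) a
  rw [polar_comm]
  exact h3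

theorem exists_pp (hS : Sys Q ρ π) {W : Submodule F V} (hW : finrank F W < 8) : ∃ u : V, u ≠ 0 ∧ ∀ v ∈ W, polar Q v u = 0 := by
  have h1 := finrank_pp (nd hS) W
  rw [hS.dim] at h1
  have h3 : pp Q W ≠ ⊥ := by
    intro h
    rw [h, finrank_bot] at h1
    omega
  obtain ⟨u, hu, hu0⟩ := Submodule.exists_mem_ne_zero_of_ne_bot h3
  exact ⟨u, hu0, hu⟩

include hS hf h2 hD hR in
/-- linked translates meet in a space of dimension two -/
theorem XT_link {Gi : Fin 5 → Γ} (hGi : ∀ i, π (Gi i) = f (g i)) {i j : Fin 5} {x : G} (hi : x ∈ cj (g i) M)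
    (hj : x ∈ cj (g j) M) (hx : x ^ 2 ≠ 1) : 2 ≤ finrank F ↥(XT ρ π f M r (Gi i) ⊓ XT ρ π f M r (Gi j)) := by
  obtain ⟨a, ha, ha1⟩ := hi
  obtain ⟨b, hb, hb1⟩ := hj
  change g i * a * (g i)⁻¹ = x at ha1
  change g j * b * (g j)⁻¹ = x at hb1
  obtain ⟨a', ha', hπa⟩ := Mh_lift hS hD ha
  obtain ⟨b', hb', hπb⟩ := Mh_lift hS hD hb
  have e1 : π (Gi i * a' * (Gi i)⁻¹) = f x := by
    rw [map_mul, map_mul, map_inv, hGi, hπa, ← ha1, map_mul, map_mul, map_inv]
  have e2 : π (Gi j * b' * (Gi j)⁻¹) = f x := by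
    rw [map_mul, map_mul, map_inv, hGi, hπb, ← hb1, map_mul, map_mul, map_inv]
  have e3 : π ((Gi i * a' * (Gi i)⁻¹)⁻¹ * (Gi j * b' * (Gi j)⁻¹)) = 1 := by
    rw [map_mul, map_inv, e1, e2, inv_mul_cancel]
  obtain ⟨e, he⟩ := (hS.ker _).1 e3
  have h8 : finrank F ↥(XT ρ π f M r (Gi i) ⊔ XT ρ π f M r (Gi j)) < 8 := by
    have := Submodule.finrank_add_le_finrank_add_finrank (XT ρ π f M r (Gi i)) (XT ρ π f M r (Gi j))
    rw [XT_dim hS hf h2 hD hR, XT_dim hS hf h2 hD hR] at this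
    omega
  obtain ⟨u, hu0, hu⟩ := exists_pp hS h8
  have h3 : ρ (Gi i * a' * (Gi i)⁻¹) u = u := XT_fix hS hD hR _ ha' fun v hv => hu v (Submodule.mem_sup_left hv)
  have h4 : ρ (Gi j * b' * (Gi j)⁻¹) u = u := XT_fix hS hD hR _ hb' fun v hv => hu v (Submodule.mem_sup_right hv)
  have h5 := he u
  rw [mul_ap, h4] at h5
  have h6 : ρ (Gi i * a' * (Gi i)⁻¹)⁻¹ u = u := by
    nth_rewrite 1 [← h3]
    rw [inv_ap]
  rw [h6] at h5
  have he1 : e = 1 := by
    have h7 : (e - 1) • u = 0 := by rw [sub_smul, ← h5, one_smul, sub_self]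
    exact sub_eq_zero.1 ((smul_eq_zero.1 h7).resolve_right hu0)
  have h7 : Gi i * a' * (Gi i)⁻¹ = Gi j * b' * (Gi j)⁻¹ :=
    inv_mul_eq_one.1 (faithful hS fun v => by rw [he, he1, one_smul])
  have h9 : LinearMap.range (ρ (Gi i * a' * (Gi i)⁻¹) - 1) ≤ XT ρ π f M r (Gi i) ⊓ XT ρ π f M r (Gi j) := by
    refine le_inf (XT_range hS hD hR _ ha') ?_
    rw [h7]
    exact XT_range hS hD hR _ hb'
  refine le_trans ?_ (Submodule.finrank_mono h9)
  by_contra hlt
  have h10 := rank_one hS h2 (h := Gi i * a' * (Gi i)⁻¹) (by omega)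
  apply hx
  apply hf
  rw [map_pow, ← e1, ← map_pow, map_one]
  rw [faithful hS (g := (Gi i * a' * (Gi i)⁻¹) ^ 2) (fun v => by rw [pow_two, mul_ap]; exact h10 v), map_one]

include hS hf h2 hD hR in
theorem exists_Z {Gi : Fin 5 → Γ} (hGi : ∀ i, π (Gi i) = f (g i)) (m : ℕ) (hm : m < 5) :
    ∃ Z : Submodule F V, finrank F Z ≤ 3 + m ∧ ∀ i : Fin 5, i.val ≤ m → XT ρ π f M r (Gi i) ≤ Z := by
  induction m with
  | zero =>
    refine ⟨XT ρ π f M r (Gi 0), by rw [XT_dim hS hf h2 hD hR], fun i hi => ?_⟩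
    have : i = 0 := Fin.ext (by simpa using hi)
    rw [this]
  | succ m ih =>
    obtain ⟨Z, hZ, hle⟩ := ih (by omega)
    refine ⟨Z ⊔ XT ρ π f M r (Gi ⟨m + 1, hm⟩), ?_, fun i hi => ?_⟩
    · obtain ⟨j, hj, x, hx, hxj, hx2⟩ := hD.link ⟨m + 1, hm⟩ (by
        intro h
        have := congrArg Fin.val h
        simp at this)
      have h1 := XT_link hS hf h2 hD hR hGi hx hxj hx2
      have h3 : XT ρ π f M r (Gi ⟨m + 1, hm⟩) ⊓ XT ρ π f M r (Gi j) ≤ Z ⊓ XT ρ π f M r (Gi ⟨m + 1, hm⟩) := by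
        refine le_inf (inf_le_right.trans (hle j ?_)) inf_le_left
        have : j.val < m + 1 := hj
        omega
      have h4 := Submodule.finrank_mono h3
      have h5 := Submodule.finrank_sup_add_finrank_inf_eq Z (XT ρ π f M r (Gi ⟨m + 1, hm⟩))
      rw [XT_dim hS hf h2 hD hR] at h5
      omega
    · rcases Nat.lt_or_ge i.val (m + 1) with h | h
      · exact (hle i (by omega)).trans le_sup_left
      · have : i = ⟨m + 1, hm⟩ := Fin.ext (by simpa using le_antisymm hi h)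
        rw [this]
        exact le_sup_right

include hS hf h2 hD hR in
/-- a vector fixed by the perfect lift of `G` -/
theorem exists_z : ∃ z : V, z ≠ 0 ∧ ∀ x ∈ hat π ((⊤ : Subgroup G).map f), ρ x z = z := by
  choose Gi hGi using fun i => hS.surj (f (g i))
  obtain ⟨Z, hZ, hle⟩ := exists_Z hS hf h2 hD hR hGi 4 (by norm_num)
  obtain ⟨z, hz0, hz⟩ := exists_pp hS (W := Z) (by omega)
  refine ⟨z, hz0, ?_⟩
  let D : Subgroup Γ :=
    { carrier := {x | ∃ e : F, ρ x z = e • z}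
      mul_mem' := by
        rintro a b ⟨ea, ha⟩ ⟨eb, hb⟩
        exact ⟨eb * ea, by rw [mul_ap, hb, map_smul, ha, smul_smul]⟩
      one_mem' := ⟨1, by rw [one_ap, one_smul]⟩
      inv_mem' := by
        rintro a ⟨e, he⟩
        have h1 := inv_ap (ρ := ρ) a z
        rw [he, map_smul] at h1
        have he0 : e ≠ 0 := by
          rintro rfl
          rw [zero_smul] at h1
          exact hz0 h1.symm
        refine ⟨e⁻¹, ?_⟩
        nth_rewrite 2 [← h1]
        rw [smul_smul, inv_mul_cancel₀ he0, one_smul] }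
  have hDM : (D.map π).comap f = ⊤ := by
    rw [eq_top_iff, ← hD.top, iSup_le_iff]
    rintro i _ ⟨a, ha, rfl⟩
    obtain ⟨a', ha', hπa⟩ := Mh_lift hS hD ha
    refine ⟨Gi i * a' * (Gi i)⁻¹, ⟨1, ?_⟩, ?_⟩
    · rw [one_smul]
      exact XT_fix hS hD hR _ ha' fun v hv => hz v (hle i (by have := i.2; omega) hv)
    · rw [map_mul, map_mul, map_inv, hGi, hπa]
      change _ = f (g i * a * (g i)⁻¹)
      rw [map_mul, map_mul, map_inv]
  have hcD : ((⊤ : Subgroup G).map f).comap π ≤ D := by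
    rintro y ⟨a, -, ha⟩
    have h1 : a ∈ (D.map π).comap f := by rw [hDM]; exact Subgroup.mem_top _
    obtain ⟨x, hx, hxa⟩ := h1
    have h3 : π (x⁻¹ * y) = 1 := by rw [map_mul, map_inv, hxa, ← ha, inv_mul_cancel]
    obtain ⟨e, he⟩ := (hS.ker _).1 h3
    have h4 : x⁻¹ * y ∈ D := ⟨e, he z⟩
    have h5 := D.mul_mem hx h4
    rwa [mul_inv_cancel_left] at h5
  let E : Subgroup Γ :=
    { carrier := {x | ρ x z = z}
      mul_mem' := by
        intro a b ha hb
        change ρ (a * b) z = z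
        rw [mul_ap, hb, ha]
      one_mem' := one_ap z
      inv_mem' := by
        intro a ha
        change ρ a⁻¹ z = z
        nth_rewrite 1 [← (show ρ a z = z from ha)]
        rw [inv_ap] }
  have hE : hat π ((⊤ : Subgroup G).map f) ≤ E := by
    rw [hat, Subgroup.commutator_le]
    intro a ha b hb
    have key : ∀ a ∈ ((⊤ : Subgroup G).map f).comap π, ∃ e e' : F, ρ a z = e • z ∧ ρ a⁻¹ z = e' • z ∧ e * e' = 1 := by
      intro a ha
      obtain ⟨e, he⟩ := hcD ha
      obtain ⟨e', he'⟩ := hcD (inv_mem ha)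
      refine ⟨e, e', he, he', ?_⟩
      have h1 := inv_ap (ρ := ρ) a z
      rw [he, map_smul, he', smul_smul] at h1
      have h7 : (e * e' - 1) • z = 0 := by rw [sub_smul, h1, one_smul, sub_self]
      exact sub_eq_zero.1 ((smul_eq_zero.1 h7).resolve_right hz0)
    obtain ⟨e, e', h1, h3, h4⟩ := key a ha
    obtain ⟨d, d', h5, h6, h7⟩ := key b hb
    change ρ ⁅a, b⁆ z = z
    rw [commutatorElement_def, mul_ap, mul_ap, mul_ap, h6]
    simp only [map_smul, h3, h5, h1, smul_smul]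
    convert one_smul F z using 2
    linear_combination (d * d') * h4 + h7
  exact fun x hx => hE hx

include hS h2 hD hR in
/-- vectors fixed by the perfect lift of `G` are orthogonal to the three planes -/
theorem fix_r {v : V} (hv : ∀ x ∈ hat π ((⊤ : Subgroup G).map f), ρ x v = v) (i : Fin 3) : r i v = v := by
  have hi : i = 0 ∨ i ≠ 0 := by omega
  rcases hi with rfl | hi
  · obtain ⟨x, hx, hxπ⟩ := Mh_lift hS hD hD.mem
    exact fix_lift h2 hR hxπ (hv x (hat_mono (Subgroup.map_mono le_top) hx))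
  · obtain ⟨x, hx, hxπ⟩ := exists_hat hS.surj (M := (L 0).map f) (by rw [← Subgroup.map_commutator, hD.rot.perf])
      (Subgroup.mem_map_of_mem f (hD.rot.mem 0 i hi.symm))
    exact fix_lift h2 hR hxπ (hv x (hat_mono (Subgroup.map_mono le_top) hx))

include hS h2 hD hR in
theorem fix_X {v : V} (hv : ∀ x ∈ hat π ((⊤ : Subgroup G).map f), ρ x v = v) {x : V} (hx : x ∈ XX ρ π f M r) :
    polar Q x v = 0 :=
  Sp_perp hS (fun m hm => hv m (hat_mono (Subgroup.map_mono le_top) hm))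
    ((fix_iff hS hR).1 (fix_r hS h2 hD hR hv 0)) hx

/-- the sum of the three planes -/
abbrev P6 (r : Fin 3 → Module.End F V) : Submodule F V :=
  (LinearMap.range (r 0 - 1) ⊔ LinearMap.range (r 1 - 1)) ⊔ LinearMap.range (r 2 - 1)

include hS hR in
theorem mem_W4 {v : V} : v ∈ pp Q (P6 r) ↔ ∀ i, r i v = v := by
  constructor
  · intro h i
    rw [fix_iff hS hR]
    intro p hp
    apply h
    have hi : i = 0 ∨ i = 1 ∨ i = 2 := by omega
    rcases hi with rfl | rfl | rfl
    · exact Submodule.mem_sup_left (Submodule.mem_sup_left hp)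
    · exact Submodule.mem_sup_left (Submodule.mem_sup_right hp)
    · exact Submodule.mem_sup_right hp
  · intro h u hu
    obtain ⟨x, hx, p2, hp2, rfl⟩ := Submodule.mem_sup.1 hu
    obtain ⟨p0, hp0, p1, hp1, rfl⟩ := Submodule.mem_sup.1 hx
    rw [polar_add_left, polar_add_left, (fix_iff hS hR).1 (h 0) p0 hp0, (fix_iff hS hR).1 (h 1) p1 hp1,
      (fix_iff hS hR).1 (h 2) p2 hp2, add_zero, add_zero]

include hS hR in
theorem W4_dim : finrank F (pp Q (P6 r)) = 2 := by
  have h1 := finrank_pp (nd hS) (P6 r)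
  have h3 := Submodule.finrank_sup_add_finrank_inf_eq (LinearMap.range (r 0 - 1)) (LinearMap.range (r 1 - 1))
  rw [(P_disj hS hR (i := 0) (j := 1) (by decide)).eq_bot, finrank_bot, hR.dim, hR.dim] at h3
  have h4 := Submodule.finrank_sup_add_finrank_inf_eq (LinearMap.range (r 0 - 1) ⊔ LinearMap.range (r 1 - 1))
    (LinearMap.range (r 2 - 1))
  have h5 : (LinearMap.range (r 0 - 1) ⊔ LinearMap.range (r 1 - 1)) ⊓ LinearMap.range (r 2 - 1) = ⊥ := by
    rw [eq_bot_iff]
    rintro x ⟨hx, hx2⟩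
    obtain ⟨p0, hp0, p1, hp1, rfl⟩ := Submodule.mem_sup.1 hx
    refine (Submodule.mem_bot F).2 (P_nd hS hR hx2 fun v hv => ?_)
    rw [polar_add_right, hR.perp 2 0 (by decide) v hv p0 hp0, hR.perp 2 1 (by decide) v hv p1 hp1, add_zero]
  rw [h5, finrank_bot, hR.dim] at h4
  rw [hS.dim] at h1
  simp only [P6] at h1 ⊢
  omega

include hS hf h2 hD hR in
/-- **GEO-OM** -/
theorem geo_om : ∃ w : V, Q w ≠ 0 ∧ ∀ v, (∀ x ∈ hat π ((⊤ : Subgroup G).map f), ρ x v = v) ↔ v ∈ Submodule.span F {w} := by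
  obtain ⟨y, hyX, hy0, hyQ⟩ := exists_y' hS hf h2 hD hR (trP hS h2 hR) (rdP hS h2 hR)
  obtain ⟨z, hz0, hz⟩ := exists_z hS hf h2 hD hR
  have hyy : polar Q y y ≠ 0 := by
    rw [QuadraticMap.polar_self, two_nsmul, ← two_mul]
    exact mul_ne_zero h2 hyQ
  have hyW : y ∈ pp Q (P6 r) := by
    rw [mem_W4 hS hR]
    intro i
    have hi : i = 0 ∨ i ≠ 0 := by omega
    rcases hi with rfl | hi
    · exact hy0
    · rw [fix_iff hS hR]
      intro p hp
      rw [polar_comm]
      exact X_perp hS hD hR hi hyX hp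
  let C : Submodule F V := pp Q (P6 r) ⊓ pp Q (Submodule.span F {y})
  have hC : ∀ v, v ∈ C ↔ (∀ i, r i v = v) ∧ polar Q y v = 0 := by
    intro v
    rw [Submodule.mem_inf, mem_W4 hS hR]
    refine and_congr_right fun _ => ⟨fun h => h y (Submodule.mem_span_singleton_self y), fun h u hu => ?_⟩
    obtain ⟨a, rfl⟩ := Submodule.mem_span_singleton.1 hu
    rw [polar_smul_left, h, smul_zero]
  have hCdim : finrank F C < 2 := by
    rw [← W4_dim hS hR]
    apply Submodule.finrank_lt_finrank_of_lt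
    refine lt_of_le_of_ne inf_le_left fun h => hyy ?_
    rw [← h] at hyW
    exact ((hC y).1 hyW).2
  have hfixC : ∀ v, (∀ x ∈ hat π ((⊤ : Subgroup G).map f), ρ x v = v) → v ∈ C := fun v hv =>
    (hC v).2 ⟨fix_r hS h2 hD hR hv, fix_X hS h2 hD hR hv hyX⟩
  have hCz : Submodule.span F {z} = C := by
    apply Submodule.eq_of_le_of_finrank_le
    · rw [Submodule.span_singleton_le_iff_mem]
      exact hfixC z hz
    · rw [finrank_span_singleton hz0]
      omega
  refine ⟨z, ?_, fun v => ⟨fun hv => by rw [hCz]; exact hfixC v hv, fun hv x hx => ?_⟩⟩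
  · intro hQz
    have hzC := (hC z).1 (hfixC z hz)
    have hzz : polar Q z z = 0 := by rw [QuadraticMap.polar_self, hQz, smul_zero]
    have h3 : ∀ w ∈ pp Q (P6 r), polar Q w z = 0 := by
      intro w hw
      have h4 : w - (polar Q y w / polar Q y y) • y ∈ C := by
        rw [hC]
        refine ⟨(mem_W4 hS hR).1 (Submodule.sub_mem _ hw (Submodule.smul_mem _ _ hyW)), ?_⟩
        rw [polar_sub_right, polar_smul_right, smul_eq_mul, div_mul_cancel₀ _ hyy, sub_self]
      rw [← hCz] at h4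
      obtain ⟨a, ha⟩ := Submodule.mem_span_singleton.1 h4
      have h5 : w = a • z + (polar Q y w / polar Q y y) • y := by rw [ha]; abel
      rw [h5, polar_add_left, polar_smul_left, polar_smul_left, hzz, hzC.2, smul_zero, smul_zero, add_zero]
    have h4 : z ∈ P6 r := by
      rw [← pp_pp (nd hS) (P6 r)]
      exact h3
    obtain ⟨x, hx, p2, hp2, hx2⟩ := Submodule.mem_sup.1 h4
    obtain ⟨p0, hp0, p1, hp1, rfl⟩ := Submodule.mem_sup.1 hx
    have e0 : p0 = 0 := P_nd hS hR hp0 fun v hv => by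
      have h6 := (fix_iff hS hR).1 (hzC.1 0) v hv
      rw [← hx2, polar_add_right, polar_add_right, hR.perp 0 1 (by decide) v hv p1 hp1,
        hR.perp 0 2 (by decide) v hv p2 hp2, add_zero, add_zero] at h6
      exact h6
    have e1 : p1 = 0 := P_nd hS hR hp1 fun v hv => by
      have h6 := (fix_iff hS hR).1 (hzC.1 1) v hv
      rw [← hx2, polar_add_right, polar_add_right, hR.perp 1 0 (by decide) v hv p0 hp0,
        hR.perp 1 2 (by decide) v hv p2 hp2, add_zero, zero_add] at h6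
      exact h6
    have e2 : p2 = 0 := P_nd hS hR hp2 fun v hv => by
      have h6 := (fix_iff hS hR).1 (hzC.1 2) v hv
      rw [← hx2, polar_add_right, polar_add_right, hR.perp 2 0 (by decide) v hv p0 hp0,
        hR.perp 2 1 (by decide) v hv p1 hp1, zero_add, zero_add] at h6
      exact h6
    exact hz0 (by rw [← hx2, e0, e1, e2, add_zero, add_zero])
  · obtain ⟨a, rfl⟩ := Submodule.mem_span_singleton.1 hv
    rw [map_smul, hz x hx]

end om

end Cfsg.Agent.H442.O8R
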